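import Groth.Agent.ValEtaleLib.Basic
import Groth.Agent.HenselLib.HenselizationExists
import Groth.Agent.HenselLib.IndEtale

/-!
Étale local rings and henselizations of valuation rings.
-/

set_option autoImplicit false
open IsLocalRing
universe u

namespace Groth.Agent.ValEtaleLib

variable (A : Type u) [CommRing A] [IsDomain A] [ValuationRing A]

theorem etale_local (B : Type u) [CommRing B] [Algebra A B] [Algebra.Etale A B] (m : Ideal B) [m.IsPrime]
    (hm : m.comap (algebraMap A B) = IsLocalRing.maximalIdeal A) :
    IsLocalHom (algebraMap A (Localization.AtPrime m)) ∧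
      ∀ b : Localization.AtPrime m, ∃ (a : A) (u : (Localization.AtPrime m)ˣ),
        b = algebraMap A (Localization.AtPrime m) a * u := by
  haveI : Module.Flat B (Localization.AtPrime m) := IsLocalization.flat _ m.primeCompl
  haveI : Module.Flat A (Localization.AtPrime m) := Module.Flat.trans A B _
  haveI : Algebra.FormallyUnramified B (Localization.AtPrime m) :=
    Algebra.FormallyUnramified.of_isLocalization m.primeCompl
  haveI : Algebra.FormallyUnramified A (Localization.AtPrime m) := Algebra.FormallyUnramified.comp A B _
  haveI : Algebra.EssFiniteType B (Localization.AtPrime m) :=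
    Algebra.EssFiniteType.of_isLocalization _ m.primeCompl
  haveI : Algebra.EssFiniteType A (Localization.AtPrime m) := Algebra.EssFiniteType.comp A B _
  haveI hl : IsLocalHom (algebraMap A (Localization.AtPrime m)) := ⟨fun a ha => by
    by_contra h
    rw [IsScalarTower.algebraMap_apply A B] at ha
    exact (IsLocalization.AtPrime.isUnit_to_map_iff _ m _).1 ha (hm.ge h : a ∈ m.comap (algebraMap A B))⟩
  exact ⟨hl, exists_eq_mul_unit (W := A) (Localization.AtPrime m)⟩

theorem henselization (S : Type u) [CommRing S] [IsLocalRing S] [Algebra A S] [IsLocalHom (algebraMap A S)]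
    (h : Hensel.IsHenselization A S ∨ Hensel.IsStrictHenselization A S) :
    Module.Flat A S ∧ ∀ s : S, ∃ (a : A) (u : Sˣ), s = algebraMap A S a * u := by
  have key : ∀ {Ω : Type u} [Field Ω] {θ₀ : A →+* Ω} (hθ₀ : RingHom.ker θ₀ = maximalIdeal A),
      (HenselLib.Hens hθ₀ ≃ₐ[A] S) →
      Module.Flat A S ∧ ∀ s : S, ∃ (a : A) (u : Sˣ), s = algebraMap A S a * u := by
    intro Ω _ θ₀ hθ₀ e
    haveI := HenselLib.flat_hens hθ₀
    refine ⟨Module.Flat.of_linearEquiv e.symm.toLinearEquiv, fun s => ?_⟩
    obtain ⟨U, _, _, _, ξ, x, hx⟩ := (HenselLib.etCov_hens hθ₀ (e.symm s)).map e.toAlgHom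
    replace hx : ξ x = s := hx.trans (e.apply_symm_apply s)
    let m : Ideal U := (maximalIdeal S).comap (ξ : U →+* S)
    haveI : m.IsPrime := Ideal.comap_isPrime _ _
    have hm : m.comap (algebraMap A U) = maximalIdeal A := by
      rw [Ideal.comap_comap, AlgHom.comp_algebraMap]
      exact (eq_maximalIdeal (by
        have := (IsLocalRing.local_hom_TFAE (algebraMap A S)).out 0 4
        rw [this.1 inferInstance]
        exact maximalIdeal.isMaximal A)).trans rfl
    have hu : ∀ y : m.primeCompl, IsUnit ((ξ : U →+* S) y) := fun y => by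
      by_contra hy
      exact y.2 hy
    obtain ⟨a, u, hau⟩ := (etale_local A U m hm).2 (algebraMap U _ x)
    refine ⟨a, Units.map (IsLocalization.lift hu : Localization.AtPrime m →+* S).toMonoidHom u, ?_⟩
    have := congrArg (IsLocalization.lift hu : Localization.AtPrime m →+* S) hau
    rw [map_mul, IsLocalization.lift_eq, IsScalarTower.algebraMap_apply A U (Localization.AtPrime m),
      IsLocalization.lift_eq] at this
    rw [← hx]
    refine this.trans ?_
    rw [show (ξ : U →+* S) (algebraMap A U a) = algebraMap A S a from ξ.commutes a]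
    rfl
  rcases h with h | h
  · exact key ker_residue (HenselLib.nonempty_algEquiv_HR S).some
  · exact key (HenselLib.ker_scθ A) (HenselLib.nonempty_algEquiv_SH S).some

end Groth.Agent.ValEtaleLib
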