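import Groth.Agent.ValEtaleLib.Basic

/-!
Local rings of a smooth algebra over a valuation ring at generic points of the special fibre.
-/

set_option autoImplicit false
open IsLocalRing MvPolynomial
universe u

namespace Groth.Agent.ValEtaleLib

variable (V : Type u) [CommRing V] [IsDomain V] [ValuationRing V]

theorem exists_content {σ : Type*} (g : MvPolynomial σ V) :
    ∃ (c : V) (g' : MvPolynomial σ V), g' ∉ (maximalIdeal V).map MvPolynomial.C ∧ g = MvPolynomial.C c * g' := by
  classical
  by_cases hg : g = 0
  · refine ⟨0, 1, fun h => ?_, by simp [hg]⟩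
    have := MvPolynomial.mem_map_C_iff.1 h 0
    simp at this
  obtain ⟨d₀, hd₀, hmin⟩ := exists_dvd_all g.support (MvPolynomial.support_nonempty.2 hg) (fun d => g.coeff d)
  have hall : ∀ d, g.coeff d₀ ∣ g.coeff d := by
    intro d
    by_cases hd : d ∈ g.support
    · exact hmin d hd
    · rw [MvPolynomial.notMem_support_iff.1 hd]; exact dvd_zero _
  obtain ⟨g', hg'⟩ := (MvPolynomial.C_dvd_iff_dvd_coeff _ g).2 hall
  refine ⟨g.coeff d₀, g', fun h => ?_, hg'⟩
  have h1 := MvPolynomial.mem_map_C_iff.1 h d₀
  have h2 : g.coeff d₀ * g'.coeff d₀ = g.coeff d₀ := by rw [← MvPolynomial.coeff_C_mul, ← hg']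
  rw [(mul_eq_left₀ (MvPolynomial.mem_support_iff.1 hd₀)).1 h2] at h1
  exact (maximalIdeal.isMaximal V).ne_top ((Ideal.eq_top_iff_one _).2 h1)

theorem valuationRing_smooth (A : Type u) [CommRing A] [IsDomain A] [Algebra V A] [Algebra.Smooth V A]
    (p : Ideal A) [p.IsPrime]
    (hp : p ∈ ((IsLocalRing.maximalIdeal V).map (algebraMap V A)).minimalPrimes) :
    ValuationRing (Localization.AtPrime p) ∧
      Function.Injective (algebraMap V (Localization.AtPrime p)) ∧
      IsLocalHom (algebraMap V (Localization.AtPrime p)) ∧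
      ∀ x : Localization.AtPrime p, x ≠ 0 →
        ∃ (v : V) (w : (Localization.AtPrime p)ˣ), x = algebraMap V (Localization.AtPrime p) v * w := by
  obtain ⟨f, hfp, n, algP, tow, hstd⟩ :=
    Algebra.IsSmoothAt.exists_isStandardEtale_mvPolynomial (R := V) (p := p)
  let P := MvPolynomial (Fin n) V
  let A' := Localization.Away f
  let C := Localization.AtPrime p
  haveI hdC : IsDomain C := IsLocalization.isDomain_localization p.primeCompl_le_nonZeroDivisors
  haveI : Algebra.Etale P A' := inferInstance
  have hle : Submonoid.powers f ≤ p.primeCompl := Submonoid.powers_le.2 hfp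
  letI algA'C : Algebra A' C :=
    (IsLocalization.lift (M := Submonoid.powers f) (g := algebraMap A C)
      (fun y => IsLocalization.map_units C (⟨y.1, hle y.2⟩ : p.primeCompl))).toAlgebra
  haveI towA : IsScalarTower A A' C := IsScalarTower.of_algebraMap_eq fun a =>
    (IsLocalization.lift_eq (M := Submonoid.powers f) _ a).symm
  letI algPC : Algebra P C := ((algebraMap A' C).comp (algebraMap P A')).toAlgebra
  haveI : IsScalarTower P A' C := IsScalarTower.of_algebraMap_eq fun _ => rfl
  haveI : IsScalarTower V A' C := IsScalarTower.of_algebraMap_eq fun v => by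
    rw [IsScalarTower.algebraMap_apply V A C, IsScalarTower.algebraMap_apply V A A',
      ← IsScalarTower.algebraMap_apply A A' C]
  haveI : IsScalarTower V P C := IsScalarTower.of_algebraMap_eq fun v => by
    rw [IsScalarTower.algebraMap_apply P A' C, ← IsScalarTower.algebraMap_apply V P A',
      ← IsScalarTower.algebraMap_apply V A' C]
  haveI hloc : IsLocalization (p.primeCompl.map (algebraMap A A')) C :=
    IsLocalization.isLocalization_of_submonoid_le A' C (Submonoid.powers f) p.primeCompl hle
  haveI : Module.Flat A' C := IsLocalization.flat C (p.primeCompl.map (algebraMap A A'))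
  haveI : Module.Flat P C := Module.Flat.trans P A' C
  haveI : Algebra.FormallyUnramified A' C :=
    Algebra.FormallyUnramified.of_isLocalization (p.primeCompl.map (algebraMap A A'))
  haveI : Algebra.FormallyUnramified P C := Algebra.FormallyUnramified.comp P A' C
  haveI : Algebra.EssFiniteType A' C :=
    Algebra.EssFiniteType.of_isLocalization C (p.primeCompl.map (algebraMap A A'))
  haveI : Algebra.EssFiniteType P C := Algebra.EssFiniteType.comp P A' C
  haveI : Module.Flat V C := Module.Flat.trans V A C
  have hinj : Function.Injective (algebraMap V C) := by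
    rw [injective_iff_map_eq_zero]
    intro v hv
    by_contra hv0
    have h1 : algebraMap V C v * 1 = algebraMap V C v * 0 := by rw [hv, zero_mul, zero_mul]
    exact one_ne_zero ((Module.IsTorsionFree.isSMulRegular (M := C) (IsRegular.of_ne_zero hv0))
      (show v • (1 : C) = v • (0 : C) by rw [Algebra.smul_def, Algebra.smul_def]; exact h1))
  have hpV : ∀ v ∈ maximalIdeal V, algebraMap V A v ∈ p := fun v hv => hp.1.2 (Ideal.mem_map_of_mem _ hv)
  haveI hlocV : IsLocalHom (algebraMap V C) := ⟨fun v hv => by
    by_contra h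
    rw [IsScalarTower.algebraMap_apply V A C] at hv
    exact (IsLocalization.AtPrime.isUnit_to_map_iff C p _).1 hv (hpV v h)⟩
  let m₀ : Ideal P := (maximalIdeal V).map MvPolynomial.C
  have hm₀ : m₀.IsPrime := by
    have h : m₀ = RingHom.ker (MvPolynomial.map (σ := Fin n) (residue V)) := by
      rw [MvPolynomial.ker_map, ker_residue]
    rw [h]
    exact RingHom.ker_isPrime _
  let q : Ideal P := (maximalIdeal C).comap (algebraMap P C)
  have hq : m₀ ≤ q := Ideal.map_le_iff_le_comap.2 fun v hv => by
    change algebraMap P C (MvPolynomial.C v) ∈ maximalIdeal C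
    rw [← MvPolynomial.algebraMap_eq, ← IsScalarTower.algebraMap_apply]
    exact fun hu => hv ((isUnit_map_iff (algebraMap V C) v).1 hu)
  have hqeq : q = m₀ := by
    let p' : Ideal A' := (maximalIdeal C).comap (algebraMap A' C)
    haveI : p'.LiesOver q := ⟨by rw [Ideal.under_def, Ideal.comap_comap, ← IsScalarTower.algebraMap_eq]⟩
    haveI : m₀.IsPrime := hm₀
    obtain ⟨Q, hQle, hQp, hQo⟩ := Ideal.exists_ideal_le_liesOver_of_le (p := m₀) (q := q) p' hq
    have hp'A : p'.comap (algebraMap A A') = p := by
      rw [Ideal.comap_comap, ← IsScalarTower.algebraMap_eq]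
      exact IsLocalization.AtPrime.comap_maximalIdeal C p
    have hmem : (maximalIdeal V).map (algebraMap V A) ≤ Q.comap (algebraMap A A') := by
      refine Ideal.map_le_iff_le_comap.2 fun v hv => ?_
      change algebraMap A A' (algebraMap V A v) ∈ Q
      rw [← IsScalarTower.algebraMap_apply, IsScalarTower.algebraMap_apply V P A']
      exact (Ideal.mem_of_liesOver Q m₀ _).1 (Ideal.mem_map_of_mem _ hv)
    haveI : (Q.comap (algebraMap A A')).IsPrime := Ideal.comap_isPrime _ _
    have hQc : Q.comap (algebraMap A A') = p :=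
      le_antisymm (hp'A ▸ Ideal.comap_mono hQle)
        (hp.2 ⟨inferInstance, hmem⟩ (hp'A ▸ Ideal.comap_mono hQle))
    have hQ : Q = p' := le_antisymm hQle fun x hx => by
      obtain ⟨⟨a, s⟩, h⟩ := IsLocalization.surj (Submonoid.powers f) x
      have ha : a ∈ p'.comap (algebraMap A A') := Ideal.mem_comap.2 (h ▸ p'.mul_mem_right _ hx)
      rw [hp'A, ← hQc, Ideal.mem_comap, ← h] at ha
      exact (Ideal.mul_unit_mem_iff_mem _ (IsLocalization.map_units A' s)).1 ha
    rw [hQo.over, hQ, Ideal.under_def]
    change _ = (p'.comap (algebraMap P A'))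
    rw [Ideal.comap_comap, ← IsScalarTower.algebraMap_eq]
  haveI : m₀.IsPrime := hm₀
  let W := Localization.AtPrime m₀
  haveI hdW : IsDomain W := IsLocalization.isDomain_localization m₀.primeCompl_le_nonZeroDivisors
  have hwv : ∀ x : W, ∃ (v : V) (u : Wˣ), x = algebraMap P W (MvPolynomial.C v) * u := by
    intro x
    obtain ⟨⟨g, s⟩, h⟩ := IsLocalization.surj m₀.primeCompl x
    obtain ⟨c, g', hg', rfl⟩ := exists_content V g
    refine ⟨c, (IsLocalization.map_units W (⟨g', hg'⟩ : m₀.primeCompl)).unit *
      (IsLocalization.map_units W s).unit⁻¹, ?_⟩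
    rw [Units.val_mul, ← mul_assoc, IsUnit.unit_spec, ← map_mul, ← h, mul_assoc, IsUnit.mul_val_inv, mul_one]
  have pre : ∀ (T : Type u) [CommRing T] [IsDomain T] (φ : V →+* T),
      (∀ x : T, ∃ (v : V) (u : Tˣ), x = φ v * u) → ValuationRing T := by
    intro T _ _ φ hφ
    haveI : PreValuationRing T := PreValuationRing.iff_dvd_total.2 ⟨fun a b => by
      obtain ⟨v, u, rfl⟩ := hφ a
      obtain ⟨v', u', rfl⟩ := hφ b
      rcases ValuationRing.dvd_total v v' with h | h
      · exact Or.inl (mul_dvd_mul (map_dvd φ h) (Units.isUnit u).dvd |>.trans dvd_rfl)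
      · exact Or.inr (mul_dvd_mul (map_dvd φ h) (Units.isUnit u').dvd)⟩
    exact ⟨⟩
  haveI : ValuationRing W := pre W ((algebraMap P W).comp MvPolynomial.C) hwv
  have hunit : ∀ y : m₀.primeCompl, IsUnit (algebraMap P C y) := fun y => by
    by_contra h
    exact y.2 (hqeq.le (show (y : P) ∈ q from h))
  letI : Algebra W C := (IsLocalization.lift hunit).toAlgebra
  haveI : IsScalarTower P W C := IsScalarTower.of_algebraMap_eq fun a => (IsLocalization.lift_eq hunit a).symm
  haveI : Module.Flat W C := (Module.flat_iff_of_isLocalization W m₀.primeCompl C).2 inferInstance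
  haveI : Algebra.FormallyUnramified W C := Algebra.FormallyUnramified.of_restrictScalars P W C
  haveI : Algebra.EssFiniteType W C := Algebra.EssFiniteType.of_comp P W C
  haveI : IsLocalHom (algebraMap W C) := ⟨fun x hx => by
    obtain ⟨v, u, rfl⟩ := hwv x
    rw [map_mul, ← IsScalarTower.algebraMap_apply, ← MvPolynomial.algebraMap_eq,
      ← IsScalarTower.algebraMap_apply] at hx
    have hv : IsUnit v := (isUnit_map_iff (algebraMap V C) v).1 (isUnit_of_mul_isUnit_left hx)
    exact ((hv.map MvPolynomial.C).map (algebraMap P W)).mul u.isUnit⟩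
  have key : ∀ x : C, ∃ (v : V) (u : Cˣ), x = algebraMap V C v * u := by
    intro x
    obtain ⟨w, u, rfl⟩ := exists_eq_mul_unit (W := W) C x
    obtain ⟨v, u', rfl⟩ := hwv w
    refine ⟨v, Units.map (algebraMap W C).toMonoidHom u' * u, ?_⟩
    rw [map_mul, ← IsScalarTower.algebraMap_apply, ← MvPolynomial.algebraMap_eq,
      ← IsScalarTower.algebraMap_apply, Units.val_mul, mul_assoc]
    rfl
  exact ⟨pre C (algebraMap V C) key, hinj, hlocV, fun x _ => key x⟩

end Groth.Agent.ValEtaleLib
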