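import Mathlib

/-!
An unramified flat local domain over a valuation ring is an unramified extension of valuation rings.
-/

set_option autoImplicit false
open TensorProduct IsLocalRing
universe u v

namespace Groth.Agent.ValEtaleLib

variable {W : Type u} [CommRing W] [IsDomain W] [ValuationRing W]

theorem exists_dvd_all {ι : Type*} (s : Finset ι) (hs : s.Nonempty) (f : ι → W) :
    ∃ i ∈ s, ∀ j ∈ s, f i ∣ f j := by
  induction hs using Finset.Nonempty.cons_induction with
  | singleton a => exact ⟨a, Finset.mem_singleton_self a, fun j hj => by rw [Finset.mem_singleton.1 hj]⟩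
  | cons a s ha hs ih =>
    obtain ⟨i, hi, hdvd⟩ := ih
    rcases ValuationRing.dvd_total (f a) (f i) with h | h
    · refine ⟨a, Finset.mem_cons_self a s, fun j hj => ?_⟩
      rcases Finset.mem_cons.1 hj with rfl | hj
      · exact dvd_rfl
      · exact h.trans (hdvd j hj)
    · refine ⟨i, Finset.mem_cons.2 (Or.inr hi), fun j hj => ?_⟩
      rcases Finset.mem_cons.1 hj with rfl | hj
      · exact h
      · exact hdvd j hj

/-- lifting a residual functional to one sending a finitely generated submodule into a given ideal. -/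
theorem exists_lift (I : Ideal W) (r : ℕ) : ∀ (H : Submodule W (Fin r → W)), H.FG →
    ∀ (τ : (Fin r → W) →ₗ[W] ResidueField W), (∀ c ∉ I, ∀ z, c • z ∈ H → τ z = 0) →
    ∃ l : (Fin r → W) →ₗ[W] W, (∀ h ∈ H, l h ∈ I) ∧ ∀ z, residue W (l z) = τ z := by
  induction r with
  | zero =>
    intro H _ τ _
    refine ⟨0, fun h _ => by simp, fun z => ?_⟩
    rw [Subsingleton.elim z 0, map_zero, map_zero, map_zero]
  | succ r ih =>
    intro H hH τ hτ
    classical
    obtain ⟨S, hS⟩ := hH
    have hany : ∃ l : (Fin (r + 1) → W) →ₗ[W] W, ∀ z, residue W (l z) = τ z := by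
      obtain ⟨l, hl⟩ := Module.projective_lifting_property (Algebra.linearMap W (ResidueField W)) τ residue_surjective
      exact ⟨l, fun z => LinearMap.congr_fun hl z⟩
    by_cases hI : ∀ h ∈ S, ∀ j, h j ∈ I
    · obtain ⟨l, hl⟩ := hany
      refine ⟨l, ?_, hl⟩
      intro h hh
      rw [← hS] at hh
      have hle : Submodule.span W (S : Set (Fin (r + 1) → W)) ≤ Submodule.comap l I := by
        refine Submodule.span_le.2 fun x hx => ?_
        change l x ∈ I
        rw [pi_eq_sum_univ x, map_sum]
        exact I.sum_mem fun j _ => by rw [map_smul]; exact I.mul_mem_right _ (hI x hx j)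
      exact hle hh
    push Not at hI
    obtain ⟨h₁, hh₁, j₁, hj₁⟩ := hI
    obtain ⟨⟨h₀, j⟩, hp, hmin⟩ := exists_dvd_all (S ×ˢ (Finset.univ : Finset (Fin (r + 1))))
      ⟨(h₁, j₁), Finset.mem_product.2 ⟨hh₁, Finset.mem_univ _⟩⟩ (fun p => p.1 p.2)
    have hh₀ : h₀ ∈ S := (Finset.mem_product.1 hp).1
    have hcI : h₀ j ∉ I := fun hc => hj₁ (I.mem_of_dvd (hmin (h₁, j₁) (Finset.mem_product.2 ⟨hh₁, Finset.mem_univ _⟩)) hc)
    have hc0 : h₀ j ≠ 0 := fun h => hcI (h ▸ I.zero_mem)
    choose e he using fun i => hmin (h₀, i) (Finset.mem_product.2 ⟨hh₀, Finset.mem_univ _⟩)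
    have hej : e j = 1 := by
      have := he j
      simp only at this
      exact (mul_eq_left₀ hc0).1 this.symm
    have hce : h₀ j • e = h₀ := funext fun i => (he i).symm
    have hdvd : ∀ h ∈ H, h₀ j ∣ h j := by
      intro h hh
      rw [← hS] at hh
      have hle : Submodule.span W (S : Set (Fin (r + 1) → W)) ≤
          Submodule.comap (LinearMap.proj j) (Ideal.span {h₀ j}) :=
        Submodule.span_le.2 fun x hx => Ideal.mem_span_singleton.2 (hmin (x, j) (Finset.mem_product.2 ⟨hx, Finset.mem_univ _⟩))
      exact Ideal.mem_span_singleton.1 (hle hh)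
    have hτe : τ e = 0 := hτ _ hcI e (by rw [hce, ← hS]; exact Submodule.subset_span hh₀)
    let σ : (Fin r → W) →ₗ[W] (Fin (r + 1) → W) :=
      { toFun := fun z => Fin.insertNth j 0 z
        map_add' := fun a b => by
          funext i; refine Fin.succAboveCases j ?_ ?_ i <;> simp
        map_smul' := fun a b => by
          funext i; refine Fin.succAboveCases j ?_ ?_ i <;> simp }
    let π : (Fin (r + 1) → W) →ₗ[W] (Fin r → W) :=
      { toFun := fun z i => z (j.succAbove i) - z j * e (j.succAbove i)
        map_add' := fun a b => by funext i; simp; ring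
        map_smul' := fun a b => by funext i; simp; ring }
    have hdec : ∀ z, σ (π z) = z - z j • e := by
      intro z; funext i
      refine Fin.succAboveCases j ?_ ?_ i <;> simp [σ, π, hej]
    obtain ⟨l, hl, hlτ⟩ := ih (Submodule.map π H) (Submodule.FG.map π ⟨S, hS⟩) (τ.comp σ) (by
      intro c hc z hz
      obtain ⟨h, hh, hπ⟩ := Submodule.mem_map.1 hz
      refine hτ c hc (σ z) ?_
      rw [← map_smul, ← hπ, hdec]
      refine H.sub_mem hh ?_
      obtain ⟨d, hd⟩ := hdvd h hh
      rw [hd, mul_comm, mul_smul, hce]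
      exact H.smul_mem _ (hS ▸ Submodule.subset_span hh₀))
    refine ⟨l.comp π, fun h hh => hl _ (Submodule.mem_map_of_mem hh), fun z => ?_⟩
    rw [LinearMap.comp_apply, hlτ, LinearMap.comp_apply, hdec, map_sub, map_smul, hτe, smul_zero, sub_zero]

variable (C : Type u) [CommRing C] [IsLocalRing C] [Algebra W C] [Module.Flat W C]
  [IsLocalHom (algebraMap W C)]

/-- a separability element forces every element to be a unit times an element of the base. -/
theorem exists_eq_mul_unit [Algebra.EssFiniteType W C] [Algebra.FormallyUnramified W C] (y : C) :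
    ∃ (w : W) (u : Cˣ), y = algebraMap W C w * u := by
  classical
  by_cases hy0 : y = 0
  · exact ⟨0, 1, by simp [hy0]⟩
  obtain ⟨t, ht, ht1⟩ := Algebra.FormallyUnramified.iff_exists_tensorProduct.1
    (inferInstance : Algebra.FormallyUnramified W C)
  obtain ⟨s, hs⟩ := TensorProduct.exists_finset t
  let G : Submodule W C := Submodule.span W ((s.image Prod.snd : Finset C) ∪ (s.image (fun p => y * p.2) : Finset C) : Set C)
  haveI : Module.Finite W G := by
    refine Module.Finite.iff_fg.2 ?_
    exact ⟨(s.image Prod.snd) ∪ (s.image fun p => y * p.2), by rw [Finset.coe_union]⟩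
  haveI : Module.IsTorsionFree W C := inferInstance
  haveI : Module.IsTorsionFree W G := inferInstance
  haveI : Module.Flat W G := Module.Flat.flat_iff_torsion_eq_bot_of_isBezout.2
    (Submodule.isTorsionFree_iff_torsion_eq_bot.1 inferInstance)
  haveI : Module.Free W G := Module.free_of_flat_of_isLocalRing
  let b := Module.finBasis W G
  set r := Module.finrank W G
  have hmem : ∀ p ∈ s, p.2 ∈ G ∧ y * p.2 ∈ G := fun p hp =>
    ⟨Submodule.subset_span (Or.inl (Finset.mem_image_of_mem _ hp)),
      Submodule.subset_span (Or.inr (Finset.mem_image_of_mem (fun q : C × C => y * q.2) hp))⟩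
  let g₁ : ↥s → (Fin r → W) := fun p => b.equivFun ⟨p.1.2, (hmem p.1 p.2).1⟩
  let g₂ : ↥s → (Fin r → W) := fun p => b.equivFun ⟨y * p.1.2, (hmem p.1 p.2).2⟩
  let inc : (Fin r → W) →ₗ[W] C := G.subtype.comp b.equivFun.symm.toLinearMap
  have hg₁ : ∀ p, inc (g₁ p) = p.1.2 := fun p => by simp [inc, g₁]
  have hg₂ : ∀ p, inc (g₂ p) = y * p.1.2 := fun p => by simp [inc, g₂]
  have hinc : Function.Injective inc := G.injective_subtype.comp b.equivFun.symm.injective
  -- the key identity in `C ⊗ (Fin r → W)`
  have key : ∑ p : ↥s, (y * p.1.1) ⊗ₜ[W] g₁ p = ∑ p : ↥s, p.1.1 ⊗ₜ[W] g₂ p := by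
    apply Module.Flat.lTensor_preserves_injective_linearMap (M := C) inc hinc
    simp only [map_sum, LinearMap.lTensor_tmul, hg₁, hg₂]
    rw [Finset.sum_coe_sort s (fun p => (y * p.1) ⊗ₜ[W] p.2),
      Finset.sum_coe_sort s (fun p => p.1 ⊗ₜ[W] (y * p.2))]
    have h1 := ht y
    rw [sub_mul, sub_eq_zero, hs, Finset.mul_sum, Finset.mul_sum] at h1
    simp only [Algebra.TensorProduct.tmul_mul_tmul, one_mul] at h1
    first | exact h1 | exact h1.symm
  -- a residual functional
  have hone : ∑ p : ↥s, residue C p.1.1 * residue C p.1.2 = 1 := by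
    rw [Finset.sum_coe_sort s (fun p => residue C p.1 * residue C p.2)]
    rw [hs, map_sum] at ht1
    simp only [LinearMap.mul'_apply, Algebra.TensorProduct.lmul'_apply_tmul] at ht1
    simp only [← map_mul, ← map_sum, ht1, map_one]
  let β := Module.Free.chooseBasis (ResidueField W) (ResidueField C)
  obtain ⟨j, hj⟩ : ∃ j, ∑ p : ↥s, residue C p.1.1 * algebraMap (ResidueField W) (ResidueField C) (β.coord j (residue C p.1.2)) ≠ 0 := by
    by_contra hall
    push Not at hall
    apply one_ne_zero (α := ResidueField C)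
    rw [← hone]
    have hb : ∀ p : ↥s, residue C p.1.2 =
        ∑ j ∈ Finset.univ.biUnion (fun q : ↥s => (β.repr (residue C q.1.2)).support),
          algebraMap (ResidueField W) (ResidueField C) (β.coord j (residue C p.1.2)) * β j := by
      intro p
      conv_lhs => rw [← β.linearCombination_repr (residue C p.1.2)]
      rw [Finsupp.linearCombination_apply, Finsupp.sum_of_support_subset _
        (Finset.subset_biUnion_of_mem (fun q : ↥s => (β.repr (residue C q.1.2)).support) (Finset.mem_univ p))
        (fun i a => a • β i) (fun i _ => zero_smul _ _)]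
      exact Finset.sum_congr rfl fun i _ => Algebra.smul_def _ _
    calc ∑ p : ↥s, residue C p.1.1 * residue C p.1.2
        = ∑ p : ↥s, ∑ j ∈ Finset.univ.biUnion (fun q : ↥s => (β.repr (residue C q.1.2)).support),
          residue C p.1.1 * algebraMap (ResidueField W) (ResidueField C) (β.coord j (residue C p.1.2)) * β j :=
          Finset.sum_congr rfl fun p _ => by
            conv_lhs => rw [hb p]
            rw [Finset.mul_sum]
            exact Finset.sum_congr rfl fun i _ => (mul_assoc _ _ _).symm
      _ = 0 := by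
          rw [Finset.sum_comm]
          exact Finset.sum_eq_zero fun j _ => by rw [← Finset.sum_mul, hall j, zero_mul]
  let res : C →ₗ[W] ResidueField C := (Algebra.ofId C (ResidueField C)).toLinearMap.restrictScalars W
  let τ : (Fin r → W) →ₗ[W] ResidueField W := ((β.coord j).restrictScalars W).comp (res.comp inc)
  let I : Ideal W := Ideal.comap (algebraMap W C) (Ideal.span {y})
  let H : Submodule W (Fin r → W) := Submodule.span W (Set.range g₂)
  obtain ⟨l, hl, hlτ⟩ := exists_lift I r H (Submodule.fg_span (Set.finite_range g₂)) τ (by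
    intro c hc z hz
    have hz' : algebraMap W C c * inc z ∈ Ideal.span {y} := by
      have hle : H ≤ Submodule.comap inc ((Ideal.span {y}).restrictScalars W) :=
        Submodule.span_le.2 (by
          rintro _ ⟨p, rfl⟩
          change inc (g₂ p) ∈ Ideal.span {y}
          rw [hg₂]; exact Ideal.mul_mem_right _ _ (Ideal.mem_span_singleton_self y))
      have := hle hz
      rwa [Submodule.mem_comap, map_smul, Algebra.smul_def] at this
    have hnu : ¬ IsUnit (inc z) := by
      intro hu
      exact hc (Ideal.mem_comap.2 ((Ideal.mul_unit_mem_iff_mem _ hu).1 hz'))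
    have : residue C (inc z) = 0 := (residue_eq_zero_iff _).2 hnu
    change β.coord j (residue C (inc z)) = 0
    rw [this, map_zero])
  let u₀ := ∑ p : ↥s, algebraMap W C (l (g₁ p)) * p.1.1
  have hu₀ : IsUnit u₀ := by
    by_contra hu
    apply hj
    rw [← (residue_eq_zero_iff u₀).2 hu, map_sum]
    refine Finset.sum_congr rfl fun p _ => ?_
    rw [map_mul, mul_comm]
    congr 1
    change algebraMap (ResidueField W) (ResidueField C) (β.coord j (residue C p.1.2)) = residue C (algebraMap W C (l (g₁ p)))
    rw [← IsLocalRing.ResidueField.algebraMap_residue, hlτ]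
    change _ = algebraMap (ResidueField W) (ResidueField C) (β.coord j (residue C (inc (g₁ p))))
    rw [hg₁]
  have heq : y * u₀ = ∑ p : ↥s, algebraMap W C (l (g₂ p)) * p.1.1 := by
    have := congrArg ((TensorProduct.rid W C).toLinearMap.comp (LinearMap.lTensor C l)) key
    simp only [LinearMap.comp_apply, LinearEquiv.coe_coe, map_sum, LinearMap.lTensor_tmul,
      TensorProduct.rid_tmul, Algebra.smul_def] at this
    rw [Finset.mul_sum, ← this]
    exact Finset.sum_congr rfl fun p _ => by ring
  by_cases hse : (Finset.univ : Finset ↥s).Nonempty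
  · obtain ⟨p₀, -, hmin⟩ := exists_dvd_all Finset.univ hse (fun p => l (g₂ p))
    set w := l (g₂ p₀) with hw
    choose d hd using fun p => hmin p (Finset.mem_univ p)
    obtain ⟨c, hc⟩ := Ideal.mem_span_singleton.1 (Ideal.mem_comap.1 (hl _ (Submodule.subset_span ⟨p₀, rfl⟩)) : algebraMap W C w ∈ Ideal.span {y})
    let d' := ∑ p : ↥s, algebraMap W C (d p) * p.1.1
    have hyw : y * u₀ = algebraMap W C w * d' := by
      rw [heq, Finset.mul_sum]
      exact Finset.sum_congr rfl fun p _ => by rw [hd p, map_mul]; ring
    rw [hc, mul_assoc] at hyw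
    have hcu : IsUnit c := by
      apply isUnit_of_mul_isUnit_left (y := d')
      by_contra hnu
      have hsub : IsUnit (u₀ - c * d') := by
        by_contra h
        exact (show u₀ ∈ nonunits C from by simpa using (maximalIdeal C).add_mem h hnu) hu₀
      exact hy0 ((hsub.mul_left_eq_zero).1 (by rw [mul_sub, hyw, sub_self]))
    exact ⟨w, hcu.unit⁻¹, by rw [hc, mul_assoc, IsUnit.mul_val_inv, mul_one]⟩
  · exfalso
    rw [Finset.not_nonempty_iff_eq_empty] at hse
    rw [hse, Finset.sum_empty] at hone
    exact zero_ne_one hone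

/-- If every element is a unit times the image of an element of a flat base valuation ring, we get a valuation ring. -/
theorem valuationRing_of_forall [Nontrivial C]
    (h : ∀ y : C, ∃ (w : W) (u : Cˣ), y = algebraMap W C w * u) :
    IsDomain C ∧ (∀ _ : IsDomain C, ValuationRing C) ∧ Function.Injective (algebraMap W C) := by
  have hinj : Function.Injective (algebraMap W C) := by
    rw [injective_iff_map_eq_zero]
    intro v hv
    by_contra hv0
    refine one_ne_zero ((Module.IsTorsionFree.isSMulRegular (M := C) (IsRegular.of_ne_zero hv0))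
      (show v • (1 : C) = v • (0 : C) by rw [Algebra.smul_def, Algebra.smul_def, hv, zero_mul, zero_mul]))
  haveI : NoZeroDivisors C := ⟨fun {a b} hab => by
    obtain ⟨w, u, rfl⟩ := h a
    obtain ⟨w', u', rfl⟩ := h b
    have h1 : algebraMap W C (w * w') * (↑(u * u') : C) = 0 := by
      rw [map_mul, Units.val_mul, ← hab]; ring
    rcases mul_eq_zero.1 (hinj (((Units.isUnit (u * u')).mul_left_eq_zero.1 h1).trans (map_zero _).symm)) with hw | hw
    · left; rw [hw, map_zero, zero_mul]
    · right; rw [hw, map_zero, zero_mul]⟩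
  refine ⟨NoZeroDivisors.to_isDomain C, fun _ => ?_, hinj⟩
  haveI : PreValuationRing C := PreValuationRing.iff_dvd_total.2 ⟨fun a b => by
    obtain ⟨v, u, rfl⟩ := h a
    obtain ⟨v', u', rfl⟩ := h b
    rcases ValuationRing.dvd_total v v' with hh | hh
    · exact Or.inl (mul_dvd_mul (map_dvd (algebraMap W C) hh) (Units.isUnit u).dvd)
    · exact Or.inr (mul_dvd_mul (map_dvd (algebraMap W C) hh) (Units.isUnit u').dvd)⟩
  exact ⟨⟩

end Groth.Agent.ValEtaleLib
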